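import Mathlib
import Groth.Prelude.Def_Neron
import Groth.Prelude.Def_Red
import Groth.Agent.FlatClosure.Base

/-!
# Schematic closure of a subgroup of the generic fibre
-/

set_option autoImplicit false
universe u
open CategoryTheory MonoidalCategory CartesianMonoidalCategory MonObj GrpObj AlgebraicGeometry CategoryTheory.Limits

namespace Groth.Agent.FlatClosure

theorem exists_grpObj_of_mono {C : Type*} [Category C] [CartesianMonoidalCategory C] {T G : C} [GrpObj G]
    (j : T ⟶ G) [Mono j] (hone : ∃ c : 𝟙_ C ⟶ T, c ≫ j = 1)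
    (hmul : ∀ (X : C) (a b : X ⟶ T), ∃ c : X ⟶ T, c ≫ j = (a ≫ j) * (b ≫ j))
    (hinv : ∀ (X : C) (a : X ⟶ T), ∃ c : X ⟶ T, c ≫ j = (a ≫ j)⁻¹) : ∃ _ : GrpObj T, IsMonHom j := by
  let Sub : ∀ X : C, Subgroup (X ⟶ G) := fun X =>
    { carrier := {g | ∃ z : X ⟶ T, z ≫ j = g}
      one_mem' := by
        obtain ⟨c, hc⟩ := hone
        exact ⟨toUnit X ≫ c, by rw [Category.assoc, hc, MonObj.comp_one]⟩
      mul_mem' := by
        rintro _ _ ⟨a, rfl⟩ ⟨b, rfl⟩
        exact hmul X a b
      inv_mem' := by
        rintro _ ⟨a, rfl⟩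
        exact hinv X a }
  let F : Cᵒᵖ ⥤ GrpCat :=
    { obj := fun X => GrpCat.of (Sub X.unop)
      map := fun {X Y} φ => GrpCat.ofHom
        { toFun := fun g => ⟨φ.unop ≫ g.1, by obtain ⟨z, hz⟩ := g.2; exact ⟨φ.unop ≫ z, by rw [Category.assoc, hz]⟩⟩
          map_one' := Subtype.ext (MonObj.comp_one _)
          map_mul' := fun a b => Subtype.ext (MonObj.comp_mul _ _ _) }
      map_id := fun X => GrpCat.hom_ext (MonoidHom.ext fun g => Subtype.ext (Category.id_comp g.1))
      map_comp := fun φ ψ => GrpCat.hom_ext (MonoidHom.ext fun g => Subtype.ext (Category.assoc _ _ _)) }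
  let α : (F ⋙ forget _).RepresentableBy T :=
    { homEquiv := fun {X} => Equiv.ofBijective (fun z => (⟨z ≫ j, z, rfl⟩ : Sub X))
        ⟨fun a b h => (cancel_mono j).mp (congrArg Subtype.val h), fun g => by
          obtain ⟨z, hz⟩ := g.2
          exact ⟨z, Subtype.ext hz⟩⟩
      homEquiv_comp := fun f g => Subtype.ext (Category.assoc _ _ _) }
  letI I := GrpObj.ofRepresentableBy T F α
  let e : ∀ {X : C}, (X ⟶ T) ≃ Sub X := fun {X} => α.homEquiv
  refine ⟨I, ⟨?_, ?_⟩⟩
  · have h : (η[T] : 𝟙_ C ⟶ T) ≫ j = 1 := congrArg Subtype.val ((e (X := 𝟙_ C)).apply_symm_apply 1)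
    rw [h, Hom.one_def, toUnit_unique (toUnit _) (𝟙 _), Category.id_comp]
  · have h : (μ[T] : T ⊗ T ⟶ T) ≫ j = (fst T T ≫ j) * (snd T T ≫ j) :=
      congrArg Subtype.val ((e (X := T ⊗ T)).apply_symm_apply (e (fst T T) * e (snd T T)))
    rw [h, Hom.mul_def, lift_fst_comp_snd_comp]

variable (R : Type u) [CommRing R] [IsDedekindDomain R]

theorem isPreimmersion_genPt : IsPreimmersion (Neron.genPt R) :=
  IsPreimmersion.of_isLocalization (nonZeroDivisors R)

theorem flat_genPt : Flat (Neron.genPt R) := by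
  rw [HasRingHomProperty.Spec_iff (P := @Flat)]
  exact RingHom.flat_algebraMap_iff.mpr (IsLocalization.flat (FractionRing R) (nonZeroDivisors R))

theorem genPt_apply (x : Spec (CommRingCat.of (FractionRing R))) :
    Neron.genPt R x = genericPoint (Spec (CommRingCat.of R)) := by
  rw [genericPoint_eq_bot_of_affine]
  refine PrimeSpectrum.ext ?_
  show Ideal.comap (algebraMap R (FractionRing R)) x.asIdeal = ⊥
  have hx : x.asIdeal = ⊥ := (Ideal.eq_bot_or_top x.asIdeal).resolve_right x.isPrime.ne_top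
  rw [hx, ← RingHom.ker_eq_comap_bot]
  exact (RingHom.injective_iff_ker_eq_bot _).mp (IsFractionRing.injective R (FractionRing R))

theorem exists_flat_closedSubgroup
    (G : Over (Spec (CommRingCat.of R))) [GrpObj G]
    (HK : Over (Spec (CommRingCat.of (FractionRing R)))) [GrpObj HK]
    (i : HK ⟶ Red.bc (Neron.genPt R) G) [IsMonHom i] [IsClosedImmersion i.left] :
    ∃ (H : Over (Spec (CommRingCat.of R))) (_ : GrpObj H) (j : H ⟶ G) (φ : HK.left ⟶ H.left),
      IsMonHom j ∧ IsClosedImmersion j.left ∧ Flat H.hom ∧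
      IsPullback φ HK.hom H.hom (Neron.genPt R) ∧
      φ ≫ j.left = i.left ≫ pullback.fst G.hom (Neron.genPt R) ∧
      φ.ker = ⊥ := by
  haveI := isPreimmersion_genPt R
  haveI := flat_genPt R
  let K := Neron.genPt R
  let pr : pullback G.hom K ⟶ G.left := pullback.fst G.hom K
  haveI : IsPreimmersion pr := MorphismProperty.pullback_fst _ _ inferInstance
  let iL : HK.left ⟶ pullback G.hom K := i.left
  haveI : IsClosedImmersion iL := ‹IsClosedImmersion i.left›
  let h : HK.left ⟶ G.left := iL ≫ pr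
  let H : Over (Spec (CommRingCat.of R)) := Over.mk (h.imageι ≫ G.hom)
  let j : H ⟶ G := Over.homMk h.imageι rfl
  haveI : IsClosedImmersion j.left := inferInstanceAs (IsClosedImmersion h.imageι)
  haveI : Mono j.left := inferInstance
  haveI : Mono j := Over.mono_of_mono_left j
  have hiL : iL ≫ pullback.snd G.hom K = HK.hom := Over.w i
  have hηG : ∀ w, G.hom (h w) = genericPoint (Spec (CommRingCat.of R)) := fun w => by
    rw [← Scheme.Hom.comp_apply, show h ≫ G.hom = HK.hom ≫ K by
      rw [← hiL, Category.assoc, Category.assoc, ← pullback.condition]]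
    rw [Scheme.Hom.comp_apply, genPt_apply]
  haveI hflat : Flat H.hom := flat_image (valuationRing_stalk R) h G.hom hηG
  have hpb : IsPullback h.toImage HK.hom H.hom K := by
    have := (isPullback_toImage pr iL).paste_vert (IsPullback.of_hasPullback G.hom K)
    rwa [hiL] at this
  let F := Over.pullback K
  let θ : F.obj H ⟶ HK := Over.homMk hpb.isoPullback.inv (hpb.isoPullback_inv_snd)
  have hθ : θ ≫ i = F.map j := by
    refine Over.OverMorphism.ext ?_
    rw [Over.comp_left]
    have e1 := hpb.isoPullback_inv_fst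
    have e2 := hpb.isoPullback_inv_snd
    apply pullback.hom_ext
    · rw [show ((F.map j).left ≫ pullback.fst G.hom K) = pullback.fst H.hom K ≫ h.imageι from
        pullback.lift_fst _ _ _, ← e1, Category.assoc, Category.assoc, h.toImage_imageι]
      rfl
    · rw [show ((F.map j).left ≫ pullback.snd G.hom K) = pullback.snd H.hom K from
        pullback.lift_snd _ _ _, Category.assoc]
      exact (congrArg (fun t => hpb.isoPullback.inv ≫ t) hiL).trans e2
  -- factorisation through the closure
  have hfac : ∀ (X : Over (Spec (CommRingCat.of R))), Flat X.hom → ∀ g : X ⟶ G,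
      (∃ c : F.obj X ⟶ HK, c ≫ i = F.map g) → ∃ c : X ⟶ H, c ≫ j = g := by
    rintro X hX g ⟨c, hc⟩
    haveI := hX
    let w : pullback X.hom K ⟶ X.left := pullback.fst X.hom K
    haveI : IsPreimmersion w := MorphismProperty.pullback_fst _ _ inferInstance
    have hw : ∀ V, Function.Injective (w.app V) := app_injective_of_flat X.hom w
      (fun x => (isPreimmersion_stalkMap_bijective w x).1) fun y hy => by
        rw [Scheme.Pullback.range_fst]
        haveI : Nonempty (Spec (CommRingCat.of (FractionRing R))) := inferInstance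
        exact ⟨Classical.arbitrary _, (genPt_apply R _).trans hy.symm⟩
    have e : w ≫ g.left = c.left ≫ h := by
      have := congrArg (fun t => CommaMorphism.left t ≫ pullback.fst G.hom K) hc
      simp only [Over.comp_left, Category.assoc] at this
      rw [show ((F.map g).left ≫ pullback.fst G.hom K) = w ≫ g.left from pullback.lift_fst _ _ _] at this
      exact this.symm
    have hle : h.imageι.ker ≤ g.left.ker := by
      rw [← ker_comp_of_app_injective w g.left hw, e, show h.imageι.ker = h.ker from h.ker.ker_subschemeι]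
      exact Scheme.Hom.le_ker_comp _ _
    refine ⟨Over.homMk (IsClosedImmersion.lift h.imageι g.left hle) ?_, Over.OverMorphism.ext ?_⟩
    · show _ ≫ h.imageι ≫ G.hom = X.hom
      rw [← Category.assoc, IsClosedImmersion.lift_fac]
      exact Over.w g
    · exact IsClosedImmersion.lift_fac _ _ hle
  have hone : ∃ c : 𝟙_ (Over (Spec (CommRingCat.of R))) ⟶ H, c ≫ j = 1 := by
    refine hfac _ (inferInstanceAs (Flat (𝟙 _))) 1 ⟨1, ?_⟩
    rw [MonObj.one_comp, Functor.map_one]
  have huniv : ∃ c : H ⊗ H ⟶ H, c ≫ j = (fst H H ≫ j) * (snd H H ≫ j) := by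
    haveI : Flat (H ⊗ H).hom := by
      show Flat (pullback.fst H.hom H.hom ≫ H.hom)
      infer_instance
    refine hfac _ inferInstance _ ⟨(F.map (fst H H) ≫ θ) * (F.map (snd H H) ≫ θ), ?_⟩
    rw [MonObj.mul_comp, Category.assoc, Category.assoc, hθ, ← F.map_comp, ← F.map_comp, ← Functor.map_mul]
  have hinvu : ∃ c : H ⟶ H, c ≫ j = j⁻¹ := by
    refine hfac H hflat _ ⟨θ⁻¹, ?_⟩
    rw [GrpObj.inv_comp, hθ]
    exact (Functor.map_inv' F j).symm
  obtain ⟨I, hI⟩ := exists_grpObj_of_mono j hone (fun X a b => by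
      obtain ⟨c, hc⟩ := huniv
      exact ⟨lift a b ≫ c, by
        rw [Category.assoc, hc, MonObj.comp_mul, lift_fst_assoc, lift_snd_assoc]⟩)
    (fun X a => by
      obtain ⟨c, hc⟩ := hinvu
      exact ⟨a ≫ c, by rw [Category.assoc, hc, GrpObj.comp_inv]⟩)
  refine ⟨H, I, j, h.toImage, hI, inferInstance, hflat, hpb, h.toImage_imageι, ?_⟩
  have := ker_comp_of_app_injective h.toImage (𝟙 h.image) (toImage_app_injective h)
  rw [Category.comp_id] at this
  exact this.trans (Scheme.Hom.ker_eq_bot_of_isIso _)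

end Groth.Agent.FlatClosure
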